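import Mathlib
import Groth.Prelude.Def_FDesc
import Groth.Agent.Lib.Helper7.CohStalk.Finite

/-!
# Helper library (helper7): quasi-flat morphisms are generalizing
-/

set_option autoImplicit false
open CategoryTheory AlgebraicGeometry TensorProduct
universe u
namespace Groth.Agent.Helper7.QuasiFlat

/-- a finite nonzero module over a local ring `B`, flat over a local ring `A` through a local
homomorphism `A → B`, forces `Spec B → Spec A` to be surjective -/
theorem comap_surjective_of_flat_module {A B : Type u} [CommRing A] [CommRing B] [IsLocalRing A]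
    [IsLocalRing B] (φ : A →+* B) [IsLocalHom φ] (N : Type u) [AddCommGroup N] [Module B N]
    [Module.Finite B N] [Nontrivial N]
    (hflat : @Module.Flat A N _ _ (Module.compHom N φ)) :
    Function.Surjective (PrimeSpectrum.comap φ) := by
  let _ : Algebra A B := φ.toAlgebra
  let _ : Module A N := Module.compHom N φ
  have hST : IsScalarTower A B N := IsScalarTower.of_compHom A B N
  have hflat' : Module.Flat A N := hflat
  -- faithful flatness
  have hff : Module.FaithfullyFlat A N := by
    refine ⟨?_⟩
    intro m hm htop
    have hmA : m = IsLocalRing.maximalIdeal A := IsLocalRing.eq_maximalIdeal hm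
    -- then `m_B • ⊤ = ⊤`
    have hle : (⊤ : Submodule B N) ≤ IsLocalRing.maximalIdeal B • (⊤ : Submodule B N) := by
      intro n _
      have hn : n ∈ m • (⊤ : Submodule A N) := by rw [htop]; trivial
      refine Submodule.smul_induction_on hn ?_ ?_
      · intro a ha n' _
        have : a • n' = φ a • n' := rfl
        rw [this]
        refine Submodule.smul_mem_smul ?_ trivial
        rw [hmA] at ha
        rw [IsLocalRing.mem_maximalIdeal, mem_nonunits_iff] at ha ⊢
        intro hu
        exact ha (isUnit_of_map_unit φ a hu)
      · intro x y hx hy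
        exact Submodule.add_mem _ hx hy
    have hbot := Submodule.eq_bot_of_le_smul_of_le_jacobson_bot (IsLocalRing.maximalIdeal B)
      (⊤ : Submodule B N) (Module.Finite.fg_top) hle
      (IsLocalRing.maximalIdeal_le_jacobson ⊥)
    have : Subsingleton N := by
      rw [← Submodule.subsingleton_iff B, ← subsingleton_iff_bot_eq_top]  
      exact hbot.symm
    exact not_subsingleton N this
  intro p
  have hnt : Nontrivial (N ⊗[A] p.asIdeal.ResidueField) :=
    (Module.FaithfullyFlat.nontrivial_tensorProduct_iff_right A N).mpr inferInstance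
  have hnt2 : Nontrivial (p.asIdeal.ResidueField ⊗[A] B) := by
    by_contra hcon
    rw [not_nontrivial_iff_subsingleton] at hcon
    have h1 : Subsingleton (B ⊗[A] p.asIdeal.ResidueField) :=
      (TensorProduct.comm A B p.asIdeal.ResidueField).toEquiv.subsingleton
    have h2 : Subsingleton (N ⊗[B] (B ⊗[A] p.asIdeal.ResidueField)) := inferInstance
    have h3 : Subsingleton (N ⊗[A] p.asIdeal.ResidueField) :=
      (TensorProduct.AlgebraTensorModule.cancelBaseChange A B B N
        p.asIdeal.ResidueField).symm.toEquiv.subsingleton
    exact not_subsingleton _ h3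
  exact (PrimeSpectrum.nontrivial_iff_mem_rangeComap p).mp hnt2

/-- quasi-flat morphisms are generalizing -/
theorem generalizingMap_of_isQuasiFlat {X Y : Scheme.{u}} (f : X ⟶ Y)
    (hf : FDesc.IsQuasiFlat f) : GeneralizingMap f.base := by
  obtain ⟨M, hcoh, hflat, hnt⟩ := hf
  intro x y' hy'
  have hfin := Groth.Agent.Helper7.FinType.stalk_finite_of_isCoh M hcoh x
  have hntx := hnt x
  have hloc : IsLocalHom (f.stalkMap x).hom := inferInstance
  have hsurj := comap_surjective_of_flat_module (f.stalkMap x).hom (M.presheaf.stalk x) (hflat x)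
  have hy'' : y' ∈ Set.range (Y.fromSpecStalk (f.base x)) := by
    rw [Scheme.range_fromSpecStalk]; exact hy'
  obtain ⟨q, rfl⟩ := hy''
  obtain ⟨p, rfl⟩ := hsurj q
  refine ⟨X.fromSpecStalk x p, ?_, ?_⟩
  · have : X.fromSpecStalk x p ∈ Set.range (X.fromSpecStalk x) := ⟨p, rfl⟩
    rw [Scheme.range_fromSpecStalk] at this
    exact this
  · have h := Scheme.SpecMap_stalkMap_fromSpecStalk f (x := x)
    have h2 := congrArg (fun g => g.base p) h
    exact h2.symm

end Groth.Agent.Helper7.QuasiFlat
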