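import Mathlib
import Groth.Agent.Lib.Helper7.QuasiFlat.Generalizing
import Groth.Agent.Lib.Helper7.ProConsLib8

/-!
# Helper library (helper7): closures of preimages under generalizing maps
-/

set_option autoImplicit false
open CategoryTheory AlgebraicGeometry
universe u
namespace Groth.Agent.Helper7.QuasiFlat

open Groth.Agent.Helper7.ProConsLib

/-- for a generalizing morphism, taking preimages commutes with closures of pro-constructible
sets -/
theorem preimage_closure_eq_of_generalizingMap {X Y : Scheme.{u}} (f : X ⟶ Y)
    (hgen : GeneralizingMap f.base) {Z : Set Y} (hZ : ProCons.IsProConstructible Z) :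
    f.base ⁻¹' closure Z = closure (f.base ⁻¹' Z) := by
  apply Set.Subset.antisymm
  · intro x hx
    obtain ⟨z, hzZ, hz⟩ := exists_specializes_of_mem_closure_of_isProConstructible Y hZ hx
    obtain ⟨x', hx', rfl⟩ := hgen hz
    have hsub : ({x'} : Set X) ⊆ f.base ⁻¹' Z := Set.singleton_subset_iff.mpr hzZ
    exact closure_mono hsub hx'.mem_closure
  · exact f.base.hom.continuous.closure_preimage_subset Z

/-- the range of a quasi-compact morphism is pro-constructible -/
theorem isProConstructible_range {Y' Y : Scheme.{u}} (g : Y' ⟶ Y) [QuasiCompact g] :
    ProCons.IsProConstructible (Set.range g.base) := by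
  have h1 : ProCons.IsProConstructible (Set.univ : Set Y') :=
    isProConstructible_of_isLocallyConstructible Topology.IsLocallyConstructible.univ
  have h2 := isProConstructible_image g h1
  rwa [Set.image_univ] at h2

/-- closed subsets of a scheme are pro-constructible -/
theorem isProConstructible_of_isClosed (X : Scheme.{u}) {F : Set X} (hF : IsClosed F) :
    ProCons.IsProConstructible F := by
  apply isProConstructible_of_forall_exists
  intro x
  obtain ⟨U, hxU⟩ := exists_affineOpen_mem X x
  have hs := spectralSpace_affineOpen X U
  refine ⟨((U : X.Opens) : Set X), (U : X.Opens).2, hs, hxU, ?_⟩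
  exact isClosed_cons_of_isClosed (hF.preimage continuous_subtype_val)

/-- open subsets of a scheme are ind-constructible -/
theorem isIndConstructible_of_isOpen (X : Scheme.{u}) {F : Set X} (hF : IsOpen F) :
    ProCons.IsIndConstructible F := by
  apply isIndConstructible_of_forall_exists
  intro x
  obtain ⟨U, hxU⟩ := exists_affineOpen_mem X x
  have hs := spectralSpace_affineOpen X U
  refine ⟨((U : X.Opens) : Set X), (U : X.Opens).2, hs, hxU, ?_⟩
  exact isOpen_cons_of_isOpen (hF.preimage continuous_subtype_val)

/-- a quasi-compact surjective generalizing morphism is a quotient map -/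
theorem isQuotientMap_of_generalizingMap {X Y : Scheme.{u}} (f : X ⟶ Y)
    (hgen : GeneralizingMap f.base) [Surjective f] [QuasiCompact f] :
    Topology.IsQuotientMap f.base := by
  have hsurj : Function.Surjective f.base := f.surjective
  refine Topology.isQuotientMap_iff_isClosed.mpr ⟨hsurj, fun Z => ?_⟩
  constructor
  · intro hZ
    exact hZ.preimage f.base.hom.continuous
  · intro hcl
    have hZeq : f.base '' (f.base ⁻¹' Z) = Z := Set.image_preimage_eq Z hsurj
    have hpro : ProCons.IsProConstructible Z := by
      rw [← hZeq]
      exact isProConstructible_image f (isProConstructible_of_isClosed X hcl)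
    have h1 := preimage_closure_eq_of_generalizingMap f hgen hpro
    rw [hcl.closure_eq] at h1
    have h2 : closure Z = Z := by
      rw [← Set.image_preimage_eq (closure Z) hsurj, h1, hZeq]
    rw [← h2]
    exact isClosed_closure

end Groth.Agent.Helper7.QuasiFlat
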