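import Mathlib
import Groth.Prelude.Def_FDesc
import Groth.Agent.Lib.Helper7.QuasiFlat.BaseChange

set_option linter.style.haveILetI false
set_option linter.unusedVariables false
set_option linter.unusedSectionVars false
set_option autoImplicit false
set_option backward.isDefEq.respectTransparency.types false
set_option synthInstance.maxHeartbeats 400000
set_option maxHeartbeats 1600000

universe u

/-! helper7: irreducible components of the base change along a quasi-flat morphism dominate
irreducible components. -/

open CategoryTheory CategoryTheory.Limits AlgebraicGeometry TopologicalSpace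

namespace Groth.Agent.Helper7.QuasiFlat

section Top

variable {T : Type*} [TopologicalSpace T]

/-- the generic point of an irreducible component has no proper generization. -/
theorem eq_of_specializes_of_closure_mem_irreducibleComponents [T0Space T] {x : T}
    (hx : closure {x} ∈ irreducibleComponents T) {t : T} (ht : t ⤳ x) : t = x := by
  have h1 : closure {x} ⊆ closure {t} := specializes_iff_closure_subset.mp ht
  have h2 : closure {t} ⊆ closure {x} := hx.2 (isIrreducible_singleton.closure) h1
  have h3 : x ⤳ t := by
    rw [specializes_iff_mem_closure]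
    exact h2 (subset_closure rfl)
  exact (ht.antisymm h3).eq

/-- the closure of a point without proper generizations is an irreducible component. -/
theorem closure_mem_irreducibleComponents_of_maximal [QuasiSober T] {x : T}
    (hx : ∀ t : T, t ⤳ x → t = x) : closure {x} ∈ irreducibleComponents T := by
  refine ⟨isIrreducible_singleton.closure, fun S hS hle => ?_⟩
  obtain ⟨τ, hτ⟩ := QuasiSober.sober hS.closure isClosed_closure
  have h1 : τ ⤳ x := by
    rw [specializes_iff_mem_closure, hτ.def]
    exact subset_closure (hle (subset_closure rfl))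
  have h2 := hx τ h1
  show S ⊆ closure {x}
  rw [← h2, hτ.def]
  exact subset_closure

end Top

section Fibre

variable {X Y Y' : Scheme.{u}} (f : X ⟶ Y) (g : Y' ⟶ Y)

/-- generizations inside a fibre of the base lift along the second projection of a fibre
product. -/
theorem exists_generization_of_same_fibre (ξ' : ↥(pullback f g)) (y'' : Y')
    (hspec : y'' ⤳ (pullback.snd f g) ξ') (hfib : g y'' = g ((pullback.snd f g) ξ')) :
    ∃ t : ↥(pullback f g), t ⤳ ξ' ∧ (pullback.snd f g) t = y'' := by
  obtain ⟨η, hη⟩ : ∃ η : Y, η = g ((pullback.snd f g) ξ') := ⟨_, rfl⟩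
  have hflat : Flat (pullback.snd (pullback.snd f g) (g.fiberι η)) := by
    have h1 : IsPullback (pullback.fst (pullback.snd f g) (g.fiberι η) ≫ pullback.fst f g)
        (pullback.snd (pullback.snd f g) (g.fiberι η)) f (g.fiberι η ≫ g) :=
      (IsPullback.of_hasPullback (pullback.snd f g) (g.fiberι η)).paste_horiz
        (IsPullback.of_hasPullback f g)
    rw [g.fiber_fac η] at h1
    have hw : (pullback.fst (pullback.snd f g) (g.fiberι η) ≫ pullback.fst f g) ≫ f =
        (pullback.snd (pullback.snd f g) (g.fiberι η) ≫ g.fiberToSpecResidueField η) ≫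
          Y.fromSpecResidueField η := by
      rw [Category.assoc _ (g.fiberToSpecResidueField η)]
      exact h1.w
    have h2 : IsPullback
        (pullback.lift (pullback.fst (pullback.snd f g) (g.fiberι η) ≫ pullback.fst f g)
          (pullback.snd (pullback.snd f g) (g.fiberι η) ≫ g.fiberToSpecResidueField η) hw)
        (pullback.snd (pullback.snd f g) (g.fiberι η))
        (pullback.snd f (Y.fromSpecResidueField η)) (g.fiberToSpecResidueField η) := by
      refine IsPullback.of_right ?_ (pullback.lift_snd _ _ _)
        (IsPullback.of_hasPullback f (Y.fromSpecResidueField η))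
      rw [pullback.lift_fst]
      exact h1
    haveI : Subsingleton ↥(Spec (Y.residueField η)) :=
      inferInstanceAs (Subsingleton (PrimeSpectrum (Y.residueField η)))
    haveI : Flat (pullback.snd f (Y.fromSpecResidueField η)) := inferInstance
    exact MorphismProperty.of_isPullback (P := @Flat) h2 inferInstance
  have hmem' : (pullback.snd f g) ξ' ∈ Set.range (g.fiberι η) := by
    rw [g.range_fiberι η]
    exact hη.symm
  have hmem'' : y'' ∈ Set.range (g.fiberι η) := by
    rw [g.range_fiberι η]
    exact hfib.trans hη.symm
  obtain ⟨b', hb'⟩ := hmem'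
  obtain ⟨b'', hb''⟩ := hmem''
  obtain ⟨w, hw1, hw2⟩ := Scheme.Pullback.exists_preimage_pullback
    (f := pullback.snd f g) (g := g.fiberι η) ξ' b' hb'.symm
  have hsp : b'' ⤳ b' := by
    rw [← (g.fiberι η).isEmbedding.isInducing.specializes_iff, hb', hb'']
    exact hspec
  rw [← hw2] at hsp
  obtain ⟨w'', hw'', hbw⟩ := (Flat.generalizingMap
    (pullback.snd (pullback.snd f g) (g.fiberι η))) hsp
  refine ⟨pullback.fst (pullback.snd f g) (g.fiberι η) w'', ?_, ?_⟩
  · rw [← hw1]
    exact hw''.map (pullback.fst (pullback.snd f g) (g.fiberι η)).continuous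
  · rw [← Scheme.Hom.comp_apply, pullback.condition, Scheme.Hom.comp_apply, hbw, hb'']

end Fibre

theorem main {X Y Y' : Scheme.{u}} (f : X ⟶ Y) (g : Y' ⟶ Y)
    (hf : ∀ Z ∈ irreducibleComponents ↥X, closure (⇑f '' Z) ∈ irreducibleComponents ↥Y)
    (hg : FDesc.IsQuasiFlat g) (Z' : Set ↥(pullback f g))
    (hZ' : Z' ∈ irreducibleComponents ↥(pullback f g)) :
    closure (⇑(pullback.snd f g) '' Z') ∈ irreducibleComponents ↥Y' := by
  obtain ⟨ξ', hξ'⟩ := QuasiSober.sober hZ'.1 (isClosed_of_mem_irreducibleComponents _ hZ')
  have hcl : closure {ξ'} = Z' := hξ'.def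
  have hmax' : ∀ t : ↥(pullback f g), t ⤳ ξ' → t = ξ' := fun t ht =>
    eq_of_specializes_of_closure_mem_irreducibleComponents (by rw [hcl]; exact hZ') ht
  have hgen : GeneralizingMap (pullback.fst f g).base :=
    generalizingMap_of_isQuasiFlat (pullback.fst f g)
      (isQuasiFlat_of_isPullback (IsPullback.of_hasPullback f g).flip hg)
  have hmax : ∀ x₁ : X, x₁ ⤳ (pullback.fst f g) ξ' → x₁ = (pullback.fst f g) ξ' := by
    intro x₁ hx₁
    obtain ⟨t, ht, hpt⟩ := hgen hx₁
    rw [← hpt, hmax' t ht]
  have hcomp := hf _ (closure_mem_irreducibleComponents_of_maximal hmax)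
  rw [closure_image_closure f.continuous, Set.image_singleton] at hcomp
  have hcond : f ((pullback.fst f g) ξ') = g ((pullback.snd f g) ξ') := by
    rw [← Scheme.Hom.comp_apply, ← Scheme.Hom.comp_apply, pullback.condition]
  have hmaxY' : ∀ y'' : Y', y'' ⤳ (pullback.snd f g) ξ' → y'' = (pullback.snd f g) ξ' := by
    intro y'' hy''
    have h1 : g y'' ⤳ g ((pullback.snd f g) ξ') := hy''.map g.continuous
    rw [← hcond] at h1
    have h2 : g y'' = f ((pullback.fst f g) ξ') :=
      eq_of_specializes_of_closure_mem_irreducibleComponents hcomp h1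
    obtain ⟨t, ht, hqt⟩ := exists_generization_of_same_fibre f g ξ' y'' hy'' (h2.trans hcond)
    rw [← hqt, hmax' t ht]
  have hres := closure_mem_irreducibleComponents_of_maximal hmaxY'
  rw [← hcl, closure_image_closure (pullback.snd f g).continuous, Set.image_singleton]
  exact hres

end Groth.Agent.Helper7.QuasiFlat
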